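import Cfsg.Agent.Lib.Helper28.Fi22x3510.ChkP0
import Cfsg.Agent.Lib.Helper28.Fi22x3510.ChkP1
import Cfsg.Agent.Lib.Helper28.Fi22x3510.ChkP2
import Cfsg.Agent.Lib.Helper28.Fi22x3510.ChkP3
import Cfsg.Agent.Lib.Helper28.Fi22x3510.ChkP4
import Cfsg.Agent.Lib.Helper28.Fi22x3510.ChkP5
import Cfsg.Agent.Lib.Helper28.Fi22x3510.ChkP6
import Cfsg.Agent.Lib.Helper28.Fi22x3510.ChkF0
import Cfsg.Agent.Lib.Helper28.Fi22x3510.ChkF1
import Cfsg.Agent.Lib.Helper28.Fi22x3510.ChkF2
import Cfsg.Agent.Lib.Helper28.Fi22x3510.ChkF3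
import Cfsg.Agent.Lib.Helper28.Fi22x3510.ChkC0
import Cfsg.Agent.Lib.Helper28.Fi22x3510.ChkC1
import Cfsg.Agent.Lib.Helper28.Fi22x3510.ChkC2
import Cfsg.Agent.Lib.Helper28.Fi22x3510.ChkC3

set_option autoImplicit false
set_option linter.unusedVariables false

namespace Cfsg.Agent.Lib.Helper28.Fi22x3510

open Cfsg.Spor.Fi22 (Gen)
open Cfsg.Agent.Lib.Helper28.TC

noncomputable section

def NNpad : ℕ := 4096
def wHot : ℕ := 27
theorem permP_all : ∀ i, i < nn → permP i = true := by
  refine all_of_blocks nn permP 8 14 (by decide) ?_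
  intro k hk
  interval_cases k
  · exact permP_blk0
  · exact permP_blk1
  · exact permP_blk2
  · exact permP_blk3
  · exact permP_blk4
  · exact permP_blk5
  · exact permP_blk6
  · exact permP_blk7
  · exact permP_blk8
  · exact permP_blk9
  · exact permP_blk10
  · exact permP_blk11
  · exact permP_blk12
  · exact permP_blk13

theorem factP_all : ∀ i, i < NNpad → factP i = true := by
  refine allBlocks_spec factP 10 4 ?_
  intro k hk
  interval_cases k
  · exact factP_blk0
  · exact factP_blk1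
  · exact factP_blk2
  · exact factP_blk3

theorem closedP_all : ∀ i, i < nn → closedP i = true := by
  refine all_of_blocks nn closedP 10 4 (by decide) ?_
  intro k hk
  interval_cases k
  · exact closedP_blk0
  · exact closedP_blk1
  · exact closedP_blk2
  · exact closedP_blk3

theorem hotA_lt : hotA < 2 ^ (27 * 4096) := by decide +kernel
theorem hotE0_lt : hotE0 < 2 ^ (27 * 4096) := by decide +kernel
theorem hotE1_lt : hotE1 < 2 ^ (27 * 4096) := by decide +kernel
theorem hotE2_lt : hotE2 < 2 ^ (27 * 4096) := by decide +kernel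
theorem hotE3_lt : hotE3 < 2 ^ (27 * 4096) := by decide +kernel
theorem hotE4_lt : hotE4 < 2 ^ (27 * 4096) := by decide +kernel
theorem hotE5_lt : hotE5 < 2 ^ (27 * 4096) := by decide +kernel
theorem hotE6_lt : hotE6 < 2 ^ (27 * 4096) := by decide +kernel
theorem hotE7_lt : hotE7 < 2 ^ (27 * 4096) := by decide +kernel
theorem hotE8_lt : hotE8 < 2 ^ (27 * 4096) := by decide +kernel
theorem subFix : allList (fun w => Nat.beq (act tf w 0) 0) subWords = true := by decide +kernel

end

end Cfsg.Agent.Lib.Helper28.Fi22x3510
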